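import Cfsg.Agent.Lib.SDKeystone.Torus.Local
import Cfsg.Agent.Lib.DegThreeP.Four

/-!
# The torus theorem: the count in a good subgroup (helper91)

With `v = v_r`, `D = C_O(t)`:

* `exists_fixed_lift` : images centralised by `tb` lift into `C(t)`;
* `tau_of_fused` : a fused covering subgroup covers the torus at every side;
* `defect_le` : `v|K| + v|D| ≤ v|C_K(t)| + v|O|` for odd `K ≤ C(z)` normalised by `t` whose image the torus normalises;
* `Good.count` : `v|H| + 2 v|D| ≤ v|C| + 2 v|O|` for a good `H`, given the quotient count in the fused case.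
-/

set_option autoImplicit false
set_option linter.unusedSectionVars false
set_option linter.style.haveILetI false

namespace Cfsg.Agent.SDKeystone.Torus

open Subgroup
open scoped Pointwise

universe u v

variable {Q : Type v} [Group Q] {L T : Subgroup Q} {zc tb : Q} {r : ℕ} {G : Type u} [Group G] [Finite G]

/-- The exponent of `r` in the order of a subgroup. -/
noncomputable def pv (r : ℕ) (K : Subgroup G) : ℕ := (Nat.card K).factorization r

theorem pv_mono {K K' : Subgroup G} (h : K ≤ K') : pv r K ≤ pv r K' :=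
  (Nat.factorization_le_iff_dvd Nat.card_pos.ne' Nat.card_pos.ne').2 (card_dvd_of_le h) r

theorem pv_map (g : G) (K : Subgroup G) : pv r (K.map (MulAut.conj g).toMonoidHom) = pv r K := by
  rw [pv, pv, card_map_of_injective (MulAut.conj g).injective]

theorem isPGroup_of_pv {R : Subgroup G} [Fact r.Prime] {n : ℕ} (h : Nat.card R = r ^ n) : pv r R = n := by
  rw [pv, h, (Fact.out : r.Prime).factorization_pow, Finsupp.single_eq_same]

/-- Brauer and Wielandt for a four group normalising an odd subgroup. -/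
theorem bw {a b : G} (ha : a * a = 1) (hb : b * b = 1) (hab : Commute a b) {K : Subgroup G}
    (hK : Odd (Nat.card K)) (haK : a ∈ normalizer (K : Set G)) (hbK : b ∈ normalizer (K : Set G)) :
    Nat.card K * Nat.card (K ⊓ centralizer ({a} : Set G) ⊓ centralizer ({b} : Set G) : Subgroup G) ^ 2 =
      Nat.card (K ⊓ centralizer ({a} : Set G) : Subgroup G) *
        Nat.card (K ⊓ centralizer ({b} : Set G) : Subgroup G) *
          Nat.card (K ⊓ centralizer ({a * b} : Set G) : Subgroup G) := by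
  set a' : normalizer (K : Set G) := ⟨a, haK⟩
  set b' : normalizer (K : Set G) := ⟨b, hbK⟩
  have hfix : ∀ (v : normalizer (K : Set G)) (x : K), K.normalizerMonoidHom v x = x ↔
      (x : G) ∈ centralizer ({(v : G)} : Set G) := by
    intro v x
    rw [mem_centralizer_singleton_iff]
    exact ⟨fun e => (mul_inv_eq_iff_eq_mul.1 (congrArg Subtype.val e : (v : G) * x * (v : G)⁻¹ = x)).symm,
      fun e => Subtype.ext (mul_inv_eq_iff_eq_mul.2 e.symm)⟩
  have hmap : ∀ (v : normalizer (K : Set G)), Nat.card (DegThreeP.fixAut (K.normalizerMonoidHom v)) =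
      Nat.card (K ⊓ centralizer ({(v : G)} : Set G) : Subgroup G) := fun v => by
    rw [← card_map_of_injective (K := DegThreeP.fixAut (K.normalizerMonoidHom v)) K.subtype_injective]
    refine congrArg (fun S : Subgroup G => Nat.card S) ?_
    ext x
    exact ⟨fun ⟨y, hy, e⟩ => e ▸ ⟨y.2, (hfix v y).1 hy⟩, fun ⟨hx, hc⟩ => ⟨⟨x, hx⟩, (hfix v ⟨x, hx⟩).2 hc, rfl⟩⟩
  have hboth : Nat.card (DegThreeP.fixAut (K.normalizerMonoidHom a') ⊓
      DegThreeP.fixAut (K.normalizerMonoidHom b') : Subgroup K) =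
      Nat.card (K ⊓ centralizer ({a} : Set G) ⊓ centralizer ({b} : Set G) : Subgroup G) := by
    rw [← card_map_of_injective (K := DegThreeP.fixAut (K.normalizerMonoidHom a') ⊓
      DegThreeP.fixAut (K.normalizerMonoidHom b')) K.subtype_injective]
    refine congrArg (fun S : Subgroup G => Nat.card S) ?_
    ext x
    exact ⟨fun ⟨y, hy, e⟩ => e ▸ ⟨⟨y.2, (hfix a' y).1 hy.1⟩, (hfix b' y).1 hy.2⟩,
      fun ⟨⟨hx, hc⟩, hd⟩ => ⟨⟨x, hx⟩, ⟨(hfix a' ⟨x, hx⟩).2 hc, (hfix b' ⟨x, hx⟩).2 hd⟩, rfl⟩⟩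
  have hw := DegThreeP.wielandt_four hK (K.normalizerMonoidHom a') (K.normalizerMonoidHom b')
    (by rw [← map_mul, show a' * a' = 1 from Subtype.ext ha, map_one])
    (by rw [← map_mul, show b' * b' = 1 from Subtype.ext hb, map_one])
    ((show Commute a' b' from Subtype.ext hab.eq).map _)
  rw [hboth, ← map_mul, hmap, hmap, hmap] at hw
  exact hw

namespace Setting

variable (S : Setting L T zc tb r G)

/-- `C(t)`. -/
abbrev Ct : Subgroup G := centralizer ({S.t} : Set G)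

/-- `D = C_O(t)`. -/
abbrev D : Subgroup G := S.O ⊓ S.Ct

theorem exists_fixed_lift {K : Subgroup G} (hn : S.t ∈ normalizer (K : Set G)) {x : G} (hx : x ∈ K)
    (hxC : x ∈ S.C) (hq : Commute (S.im x) tb) :
    ∃ y ∈ K, y ∈ S.C ∧ Commute y S.t ∧ S.im y = S.im x := by
  have h1 : S.t * x * S.t⁻¹ * x⁻¹ ∈ S.O := by
    refine S.mem_O_iff.2 ⟨mul_mem (mul_mem (mul_mem S.t_mem hxC) (inv_mem S.t_mem)) (inv_mem hxC), ?_⟩
    rw [S.im_mul (mul_mem (mul_mem S.t_mem hxC) (inv_mem S.t_mem)) (inv_mem hxC),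
      S.im_mul (mul_mem S.t_mem hxC) (inv_mem S.t_mem), S.im_mul S.t_mem hxC, S.im_inv S.t_mem, S.im_t,
      S.im_inv hxC, ← hq.eq]
    group
  have hK : S.t * x * S.t⁻¹ * x⁻¹ ∈ K := mul_mem ((mem_normalizer_iff.1 hn x).1 hx) (inv_mem hx)
  set w := S.t * x * S.t⁻¹ * x⁻¹ with hw
  obtain ⟨k, hk⟩ := odd_orderOf_mem S.O_odd h1
  have htw : S.t * w * S.t⁻¹ = w⁻¹ := by
    rw [hw, S.t_inv]
    simp only [mul_inv_rev, inv_inv, S.t_inv, mul_assoc]
    rw [← mul_assoc S.t S.t, S.tt, one_mul]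
  have hy : S.t * (w ^ (k + 1)) * S.t⁻¹ = (w ^ (k + 1))⁻¹ := by rw [← conj_pow, htw, inv_pow]
  have hO : w ^ (k + 1) ∈ S.O := pow_mem h1 _
  refine ⟨w ^ (k + 1) * x, mul_mem (pow_mem hK _) hx, mul_mem (S.O_le hO) hxC, ?_, ?_⟩
  · have e : S.t * (w ^ (k + 1) * x) * S.t⁻¹ = w ^ (k + 1) * x := by
      calc S.t * (w ^ (k + 1) * x) * S.t⁻¹ = (S.t * w ^ (k + 1) * S.t⁻¹) * (S.t * x * S.t⁻¹ * x⁻¹) * x := by
            simp [mul_assoc]
        _ = (w ^ (k + 1))⁻¹ * w * x := by rw [hy]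
        _ = w ^ (k + 1) * x := by
            congr 1
            rw [inv_mul_eq_iff_eq_mul, ← pow_add, show k + 1 + (k + 1) = orderOf w + 1 by omega, pow_add,
              pow_orderOf_eq_one, one_mul, pow_one]
    exact (mul_inv_eq_iff_eq_mul.1 e).symm
  · rw [S.im_mul (S.O_le hO) hxC, (S.mem_O_iff.1 hO).2, one_mul]

theorem tau_of_fused (F : QType L T zc tb r) {H : Subgroup G} (hz : S.z ∈ H) (ht : S.t ∈ H) (hcov : S.Cover H)
    (hH : S.Fused H) : S.Tau H := by
  obtain ⟨g0, hg0, e1, e2⟩ := S.exists_swap F hz ht hcov hH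
  have ne_of : ∀ a : G, a * a = 1 → S.im a = tb * zc → a ≠ 1 ∧ a ≠ S.z := fun a _ ha =>
    ⟨fun e => F.tb_ne_zc (by
      rw [e, S.im_one] at ha
      exact (mul_eq_one_iff_eq_inv.1 ha.symm).trans (inv_eq_of_mul_eq_one_right F.zc_sq)),
    fun e => F.tb_ne (by rw [e, S.im_z, eq_comm, mul_eq_right] at ha; exact ha)⟩
  have htz2 : S.t * S.z * (S.t * S.z) = 1 := by
    rw [← pow_two, S.tz.mul_pow, pow_two, pow_two, S.tt, S.zz, one_mul]
  obtain ⟨hne1, hne2⟩ := ne_of _ htz2 (by rw [S.im_mul S.t_mem S.z_mem, S.im_t, S.im_z])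
  obtain ⟨s, hsH, hsC, hs⟩ := S.exists_conj_t F hcov ht (mul_mem ht hz) htz2 hne1 hne2
    (S.tz.mul_left (Commute.refl _))
  have hsz : s * S.z * s⁻¹ = S.z := by rw [(S.mem_C.1 hsC).eq, mul_inv_cancel_right]
  -- a side inside `H` for each side
  intro g hg τ hτ
  obtain ⟨g1, hg1H, hg1z, hg1u⟩ : ∃ g1 ∈ H, g1 * S.z * g1⁻¹ = S.t ∧
      ∀ u, g * u * g⁻¹ = S.z → (u = S.t ∨ u = S.t * S.z) → g1 * u * g1⁻¹ = S.z := by
    rcases hg.2 with hgt | hgt
    · refine ⟨g0, hg0, e1, fun u hu _ => ?_⟩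
      rw [show u = S.t by have := hu.trans hgt.symm; simpa using this]; exact e2
    · refine ⟨g0 * s⁻¹, mul_mem hg0 (inv_mem hsH), ?_, fun u hu _ => ?_⟩
      · rw [show g0 * s⁻¹ * S.z * (g0 * s⁻¹)⁻¹ = g0 * (s⁻¹ * (s * S.z * s⁻¹) * s) * g0⁻¹ by rw [hsz]; group]
        simp [mul_assoc] at e1 ⊢; simpa [mul_assoc] using e1
      · rw [show u = S.t * S.z by have := hu.trans hgt.symm; simpa using this, ← hs]
        calc g0 * s⁻¹ * (s * S.t * s⁻¹) * (g0 * s⁻¹)⁻¹ = g0 * S.t * g0⁻¹ := by group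
          _ = S.z := e2
  set u := g⁻¹ * S.z * g with hu
  have hgu : g * u * g⁻¹ = S.z := by rw [hu]; group
  have hu' : u = S.t ∨ u = S.t * S.z := by
    rcases hg.2 with h | h
    · left; rw [hu]; conv_lhs => rw [← h]
      group
    · right; rw [hu]; conv_lhs => rw [← h]
      group
  have hg1u' := hg1u u hgu hu'
  set k := g * g1⁻¹ with hk
  have hkz : k * S.z * k⁻¹ = S.z := by
    calc k * S.z * k⁻¹ = g * (g1⁻¹ * S.z * g1) * g⁻¹ := by rw [hk]; group
      _ = g * u * g⁻¹ := by rw [show g1⁻¹ * S.z * g1 = u by rw [← hg1u']; group]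
      _ = S.z := hgu
  have hkt : k * S.t * k⁻¹ = S.t := by
    calc k * S.t * k⁻¹ = g * (g1⁻¹ * S.t * g1) * g⁻¹ := by rw [hk]; group
      _ = g * S.z * g⁻¹ := by rw [show g1⁻¹ * S.t * g1 = S.z by rw [← hg1z]; group]
      _ = S.t := hg.1
  have hkC : k ∈ S.C := S.mem_C.2 (mul_inv_eq_iff_eq_mul.1 hkz)
  have hkct : Commute k S.t := mul_inv_eq_iff_eq_mul.1 hkt
  have hkb : Commute (S.im k) tb := by
    have := congrArg S.im hkct.eq
    rwa [S.im_mul hkC S.t_mem, S.im_mul S.t_mem hkC, S.im_t] at this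
  have hτ' : (S.im k)⁻¹ * τ * S.im k ∈ T := by
    have := (mem_normalizer_iff.1 (inv_mem (F.T_norm _ hkb)) τ).1 hτ
    simpa using this
  obtain ⟨x, hxH, hxC, hxe⟩ := hcov ((S.im k)⁻¹ * τ * S.im k)
  obtain ⟨c0, hc0H, hc0C, hc0t, hc0e⟩ := S.exists_fixed_lift (le_normalizer ht) hxH hxC
    (hxe ▸ F.T_cent _ hτ')
  refine ⟨g1⁻¹ * c0 * g1, mul_mem (mul_mem (inv_mem hg1H) hc0H) hg1H, ?_, ?_, ?_⟩
  · have : g1⁻¹ * S.t * g1 = S.z := by rw [← hg1z]; group
    rw [← this]
    simpa [Commute, SemiconjBy, mul_assoc] using congrArg (fun a => g1⁻¹ * a * g1) hc0t.eq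
  · have h1 : g1⁻¹ * S.z * g1 = u := by rw [← hg1u']; group
    have hcz : Commute (g1⁻¹ * c0 * g1) S.z := by
      have : g1⁻¹ * S.t * g1 = S.z := by rw [← hg1z]; group
      rw [← this]
      simpa [Commute, SemiconjBy, mul_assoc] using congrArg (fun a => g1⁻¹ * a * g1) hc0t.eq
    have hcu : Commute (g1⁻¹ * c0 * g1) u := by
      rw [← h1]
      simpa [Commute, SemiconjBy, mul_assoc] using congrArg (fun a => g1⁻¹ * a * g1) (S.mem_C.1 hc0C).eq
    rcases hu' with h | h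
    · rwa [h] at hcu
    · rw [h] at hcu
      have := hcu.mul_right hcz
      rwa [mul_assoc S.t, S.zz, mul_one] at this
  · rw [show g * (g1⁻¹ * c0 * g1) * g⁻¹ = k * c0 * k⁻¹ by rw [hk]; group, S.im_mul (mul_mem hkC hc0C)
      (inv_mem hkC), S.im_mul hkC hc0C, S.im_inv hkC, hc0e, hxe]
    group

theorem commute_im {x : G} (hxC : x ∈ S.C) (hx : Commute x S.t) : Commute (S.im x) tb := by
  have := congrArg S.im hx.eq
  rwa [S.im_mul hxC S.t_mem, S.im_mul S.t_mem hxC, S.im_t] at this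

theorem card_eq_ker_mul {K : Subgroup G} (hK : K ≤ S.C) :
    Nat.card K = Nat.card (S.O ⊓ K : Subgroup G) * Nat.card (S.img K) := by
  let f : K →* Q := S.φ.comp (inclusion hK)
  have h1 : f.ker.map K.subtype = S.O ⊓ K := by
    ext x
    constructor
    · rintro ⟨y, hy, rfl⟩; exact ⟨S.mem_O.2 ⟨hK y.2, hy⟩, y.2⟩
    · rintro ⟨hxO, hxK⟩
      obtain ⟨_, h⟩ := S.mem_O.1 hxO
      exact ⟨⟨x, hxK⟩, h, rfl⟩
  have h2 : f.range = S.img K := by
    ext q
    constructor
    · rintro ⟨y, rfl⟩; exact S.mem_img.2 ⟨y, y.2, hK y.2, S.im_eq _⟩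
    · intro hq
      obtain ⟨x, hx, hxC, rfl⟩ := S.mem_img.1 hq
      exact ⟨⟨x, hx⟩, (S.im_eq hxC).symm⟩
  rw [← f.ker.card_mul_index, index_ker, h2, ← card_map_of_injective (K := f.ker) K.subtype_injective, h1]

theorem pv_ker_mul {K : Subgroup G} (hK : K ≤ S.C) :
    pv r K = pv r (S.O ⊓ K) + (Nat.card (S.img K)).factorization r := by
  haveI := S.finite_Q
  rw [pv, pv, S.card_eq_ker_mul hK, Nat.factorization_mul Nat.card_pos.ne' Nat.card_pos.ne',
    Finsupp.add_apply]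

/-- The odd sections at `t` give no more than `O` does. -/
theorem defect_le [Fact r.Prime] (F : QType L T zc tb r) {K : Subgroup G} (hKC : K ≤ S.C)
    (hK : Odd (Nat.card K)) (ht : S.t ∈ normalizer (K : Set G)) (hT : T ≤ normalizer (S.img K : Set Q)) :
    pv r K + pv r S.D ≤ pv r (K ⊓ S.Ct) + pv r S.O := by
  haveI := S.finite_Q
  haveI : Fact (Nat.Prime 2) := ⟨Nat.prime_two⟩
  have hcopA : ∀ {X : Subgroup G}, Odd (Nat.card X) → (Nat.card (zpowers S.t)).Coprime (Nat.card X) :=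
    fun h => by rw [Nat.card_zpowers, S.ht]; exact Nat.coprime_two_left.2 h
  -- `tb` centralises an invariant Sylow subgroup of the image
  set I := S.img K
  have hI : Odd (Nat.card I) := S.odd_card_img hK
  have htI : tb ∈ normalizer (I : Set Q) := by
    have := S.img_le_normalizer (M := zpowers S.t) (zpowers_le.2 ht) (S.im_mem_img (mem_zpowers _) S.t_mem)
    rwa [S.im_t] at this
  have htb : zpowers tb ≤ normalizer (I : Set Q) := zpowers_le.2 htI
  obtain ⟨P, hP⟩ := Coprime.exists_invariant_sylow htb (by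
    rw [Nat.card_zpowers, orderOf_eq_prime (by rw [pow_two, F.tb_sq]) F.tb_ne]
    exact Nat.coprime_two_left.2 hI) (Or.inr (solvable_of_odd hI)) r
  have hPc : (P : Subgroup I).map I.subtype ≤ S.img (K ⊓ S.Ct) := by
    intro y hy
    have hw := mul_mem ((mem_normalizer_iff.1 (hP (mem_zpowers tb)) y).1 hy) (inv_mem hy)
    set w := tb * y * tb⁻¹ * y⁻¹
    have htbi : tb⁻¹ = tb := inv_eq_of_mul_eq_one_right F.tb_sq
    have hw1 : w = 1 := by
      refine F.no_inv I hI htI hT w (map_subtype_le _ hw) ?_ ?_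
      · obtain ⟨k, hk⟩ := (P.2.map I.subtype) ⟨w, hw⟩
        exact ⟨k, congrArg Subtype.val hk⟩
      · simp only [w, htbi, mul_inv_rev, inv_inv, mul_assoc]
        rw [← mul_assoc tb tb, F.tb_sq, one_mul]
    have hc : Commute y tb := by
      rw [mul_inv_eq_one, mul_inv_eq_iff_eq_mul] at hw1
      exact hw1.symm
    obtain ⟨x, hx, hxC, rfl⟩ := S.mem_img.1 (map_subtype_le _ hy)
    obtain ⟨x', hx', hx'C, hx't, e⟩ := S.exists_fixed_lift ht hx hxC hc
    exact S.mem_img.2 ⟨x', ⟨hx', mem_centralizer_singleton_iff.2 hx't.eq⟩, hx'C, e⟩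
  have h1 : (Nat.card I).factorization r ≤ (Nat.card (S.img (K ⊓ S.Ct))).factorization r := by
    refine (Nat.Prime.pow_dvd_iff_le_factorization Fact.out Nat.card_pos.ne').1 ?_
    rw [← P.card_eq_multiplicity, ← card_map_of_injective (K := (P : Subgroup I)) I.subtype_injective]
    exact card_dvd_of_le hPc
  -- the part inside `O`
  set Y := S.O ⊓ K
  have hY : Odd (Nat.card Y) := Odd.of_dvd_nat S.O_odd (card_dvd_of_le inf_le_left)
  have htY : zpowers S.t ≤ normalizer (Y : Set G) := zpowers_le.2 (Coprime.mem_normalizer_of_forall fun y hy =>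
    ⟨(mem_normalizer_iff.1 (S.O_norm S.t_mem) y).1 hy.1, (mem_normalizer_iff.1 ht y).1 hy.2⟩)
  obtain ⟨PY, hPY⟩ := Coprime.exists_invariant_sylow htY (hcopA hY) (Or.inr (solvable_of_odd hY)) r
  obtain ⟨R, hPR, hR⟩ := Coprime.exists_invariant_sylow_ge ((zpowers_le.2 (S.O_norm S.t_mem))) (hcopA S.O_odd)
    (Or.inr (solvable_of_odd S.O_odd)) ((map_subtype_le _).trans inf_le_left) (PY.2.map _) hPY
  set P' := (PY : Subgroup Y).map Y.subtype
  set R' := (R : Subgroup S.O).map S.O.subtype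
  have hcR : Nat.card R' = r ^ pv r S.O := by
    rw [card_map_of_injective S.O.subtype_injective, R.card_eq_multiplicity]; rfl
  have hcP : Nat.card P' = r ^ pv r Y := by
    rw [card_map_of_injective Y.subtype_injective, PY.card_eq_multiplicity]; rfl
  have hidx : ∀ X : Subgroup G, (S.Ct).relIndex X * Nat.card (X ⊓ S.Ct : Subgroup G) = Nat.card X := fun X => by
    rw [← inf_relIndex_right, inf_comm, mul_comm, relIndex, ← Nat.card_congr (subgroupOfEquivOfLe
      (inf_le_left : X ⊓ S.Ct ≤ X)).toEquiv]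
    exact card_mul_index _
  have hle : (S.Ct).relIndex P' ≤ (S.Ct).relIndex R' := relIndex_le_of_le_right hPR index_ne_zero_of_finite
  have hA := hidx P'
  have hB := hidx R'
  obtain ⟨a, -, ha⟩ := (Nat.dvd_prime_pow Fact.out).1 (hcP ▸ card_dvd_of_le (inf_le_left : P' ⊓ S.Ct ≤ P'))
  have hD : Nat.card (R' ⊓ S.Ct : Subgroup G) = r ^ pv r S.D :=
    Coprime.card_inf_centralizer_eq (zpowers_le.2 (S.O_norm S.t_mem)) (hcopA S.O_odd)
      (map_subtype_le _) hR hcR (mem_zpowers _)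
  have hr1 : 1 < r := (Fact.out : r.Prime).one_lt
  have h2 : pv r Y + pv r S.D ≤ a + pv r S.O := by
    refine (Nat.pow_le_pow_iff_right hr1).1 ?_
    rw [pow_add, pow_add, ← hcP, ← hcR, ← ha, ← hD, ← hA, ← hB]
    calc S.Ct.relIndex P' * Nat.card (P' ⊓ S.Ct : Subgroup G) * Nat.card (R' ⊓ S.Ct : Subgroup G)
        ≤ S.Ct.relIndex R' * Nat.card (P' ⊓ S.Ct : Subgroup G) * Nat.card (R' ⊓ S.Ct : Subgroup G) :=
          Nat.mul_le_mul_right _ (Nat.mul_le_mul_right _ hle)
      _ = _ := by ring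
  have h3 : a ≤ pv r (S.O ⊓ (K ⊓ S.Ct)) := by
    rw [← isPGroup_of_pv (R := P' ⊓ S.Ct) ha]
    exact pv_mono (le_inf (inf_le_left.trans ((map_subtype_le _).trans inf_le_left))
      (inf_le_inf_right _ ((map_subtype_le _).trans inf_le_right)))
  have e1 := S.pv_ker_mul hKC
  have e2 := S.pv_ker_mul (K := K ⊓ S.Ct) (inf_le_left.trans hKC)
  change pv r K = pv r Y + (Nat.card I).factorization r at e1
  omega

theorem Good.cover' {R0 H : Subgroup G} (h : S.Good R0 H) : S.Cover H := h.cover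

theorem Good.tau' (F : QType L T zc tb r) {R0 H : Subgroup G} (h : S.Good R0 H) : S.Tau H :=
  h.tau.elim (S.tau_of_fused F h.z_mem h.t_mem h.cover) id

theorem pv_C_eq {H : Subgroup G} (hcov : S.Cover H) {R0 : Subgroup G} (hR : R0 ≤ S.O) (hRH : R0 ≤ H)
    (hR0 : pv r R0 = pv r S.O) : pv r (S.C ⊓ H) = pv r S.C ∧ pv r (S.O ⊓ H) = pv r S.O := by
  haveI := S.finite_Q
  have hO : pv r (S.O ⊓ H) = pv r S.O :=
    le_antisymm (pv_mono inf_le_left) (hR0 ▸ pv_mono (le_inf hR hRH))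
  refine ⟨?_, hO⟩
  have e1 := S.pv_ker_mul (K := S.C ⊓ H) inf_le_left
  have e2 := S.pv_ker_mul (K := S.C) le_rfl
  rw [show S.O ⊓ (S.C ⊓ H) = S.O ⊓ H by rw [← inf_assoc, inf_eq_left.2 S.O_le]] at e1
  rw [inf_eq_left.2 S.O_le] at e2
  have h1 : S.img (S.C ⊓ H) = ⊤ := eq_top_iff.2 fun q _ => by
    obtain ⟨x, hx, hxC, rfl⟩ := hcov q; exact S.im_mem_img ⟨hxC, hx⟩ hxC
  have h2 : S.img S.C = ⊤ := eq_top_iff.2 fun q _ => by
    obtain ⟨x, hxC, rfl⟩ := S.exists_im q; exact S.im_mem_img hxC hxC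
  rw [h1] at e1; rw [h2] at e2
  omega

/-- An unfused covering subgroup has order `|O(H)| |C_H(z)| / |O ∩ H|`. -/
theorem pv_unfused (F : QType L T zc tb r) {H : Subgroup G} (hz : S.z ∈ H) (hcov : S.Cover H)
    (hH : ¬ S.Fused H) : pv r H + pv r (S.O ⊓ H) = pv r (core H) + pv r (S.C ⊓ H) := by
  have hset : ((core H : Subgroup G) : Set G) * ((S.C ⊓ H : Subgroup G) : Set G) = (H : Set G) := by
    ext x
    constructor
    · rintro ⟨a, ha, b, hb, rfl⟩; exact mul_mem (core_le H ha) hb.2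
    · intro hx
      obtain ⟨n, hn, c, hc, hcC, rfl⟩ := S.exists_mul_C hz hH hx
      exact ⟨n, hn, c, ⟨hcC, hc⟩, rfl⟩
  have he : core H ⊓ (S.C ⊓ H) = S.O ⊓ H := le_antisymm
    (le_inf ((inf_le_inf_left _ inf_le_left).trans (S.core_inf_C_le F hcov)) (inf_le_right.trans inf_le_right))
    (le_inf (S.O_inf_le_core hz hH) (inf_le_inf_right _ S.O_le))
  have h := Coprime.card_mul_inf (core H) (S.C ⊓ H)
  rw [hset, he] at h
  have := congrArg (fun n => n.factorization r) h
  simp only [Nat.factorization_mul, Nat.card_pos.ne', ne_eq, not_false_eq_true, Finsupp.add_apply] at this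
  exact this

theorem core_bound [Fact r.Prime] (F : QType L T zc tb r) {R0 H : Subgroup G} (h : S.Good R0 H)
    (hR : R0 ≤ S.O) (hR0 : Nat.card R0 = r ^ pv r S.O) (ht0 : S.t ∈ normalizer (R0 : Set G)) :
    pv r (core H) + 2 * pv r S.D ≤ 3 * pv r S.O := by
  set K := core H with hKdef
  have hK : Odd (Nat.card K) := core_odd H
  have hzK : S.z ∈ normalizer (K : Set G) := core_norm H h.z_mem
  have htK : S.t ∈ normalizer (K : Set G) := core_norm H h.t_mem
  have hKC : K ⊓ S.C ≤ S.O := S.core_inf_C_le F h.cover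
  have hcopA : (Nat.card (zpowers S.t)).Coprime (Nat.card S.O) := by
    rw [Nat.card_zpowers, S.ht]; exact Nat.coprime_two_left.2 S.O_odd
  have hA0 : Nat.card (R0 ⊓ S.Ct : Subgroup G) = r ^ pv r S.D :=
    Coprime.card_inf_centralizer_eq (zpowers_le.2 (S.O_norm S.t_mem)) hcopA hR
      (zpowers_le.2 ht0) hR0 (mem_zpowers _)
  set KU := K ⊓ S.C ⊓ S.Ct
  have hlow : pv r S.D ≤ pv r KU := by
    rw [← isPGroup_of_pv (R := R0 ⊓ S.Ct) hA0]
    exact pv_mono (inf_le_inf_right _ (le_inf h.core (hR.trans S.O_le)))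
  have hKz : pv r (K ⊓ S.C) ≤ pv r S.O := pv_mono hKC
  have hTau := Good.tau' S F h
  -- the two other involutions
  have side : ∀ (u g : G), S.Side g → g * u * g⁻¹ = S.z → Commute u S.z → Commute u S.t →
      pv r (K ⊓ centralizer ({u} : Set G)) + pv r S.D ≤
        pv r (K ⊓ centralizer ({u} : Set G) ⊓ S.C) + pv r S.O := by
    intro u g hg hgu huz hut
    set Ku := K ⊓ centralizer ({u} : Set G)
    set e := (MulAut.conj g).toMonoidHom
    have hmem : ∀ x, x ∈ Ku.map e ↔ g⁻¹ * x * g ∈ Ku := fun x => by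
      constructor
      · rintro ⟨y, hy, rfl⟩; simpa [e, mul_assoc] using hy
      · intro hx; exact ⟨_, hx, by simp [e, mul_assoc]⟩
    have hKuC : Ku.map e ≤ S.C := fun x hx => S.mem_C.2 (by
      have hx' : Commute (g⁻¹ * x * g) u := mem_centralizer_singleton_iff.1 ((hmem x).1 hx).2
      rw [← hgu]
      simpa [Commute, SemiconjBy, mul_assoc] using congrArg (fun a => g * a * g⁻¹) hx'.eq)
    have hconj : ∀ {a : G}, a ∈ normalizer (K : Set G) → Commute a u →
        g * a * g⁻¹ ∈ normalizer (Ku.map e : Set G) := by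
      intro a haK hau
      refine Coprime.mem_normalizer_of_forall fun x hx => (hmem _).2 ?_
      rw [show g⁻¹ * (g * a * g⁻¹ * x * (g * a * g⁻¹)⁻¹) * g = a * (g⁻¹ * x * g) * a⁻¹ by group]
      obtain ⟨hxK, hxu⟩ := (hmem x).1 hx
      exact ⟨(mem_normalizer_iff.1 haK _).1 hxK, mem_centralizer_singleton_iff.2
        ((hau.mul_left (mem_centralizer_singleton_iff.1 hxu)).mul_left hau.inv_left).eq⟩
    have htn : S.t ∈ normalizer (Ku.map e : Set G) := by
      rw [← hg.1]; exact hconj hzK huz.symm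
    have hodd : Odd (Nat.card (Ku.map e)) := by
      rw [card_map_of_injective (MulAut.conj g).injective]
      exact Odd.of_dvd_nat hK (card_dvd_of_le inf_le_left)
    have hTn : T ≤ normalizer (S.img (Ku.map e) : Set Q) := by
      intro τ hτ
      obtain ⟨c, hcH, hcz, hct, hce⟩ := hTau g hg τ hτ
      have hcu : Commute c u := by
        rcases hg.2 with h' | h'
        · rwa [show u = S.t by have := hgu.trans h'.symm; simpa using this]
        · rw [show u = S.t * S.z by have := hgu.trans h'.symm; simpa using this]; exact hct.mul_right hcz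
      have hgc : g * c * g⁻¹ ∈ S.C := S.mem_C.2 (by
        rw [← hgu]; simpa [Commute, SemiconjBy, mul_assoc] using congrArg (fun a => g * a * g⁻¹) hcu.eq)
      have := S.img_le_normalizer (M := zpowers (g * c * g⁻¹))
        (zpowers_le.2 (hconj (core_norm H hcH) hcu)) (S.im_mem_img (mem_zpowers _) hgc)
      rwa [hce] at this
    have hd := S.defect_le F hKuC hodd htn hTn
    rw [pv_map] at hd
    have he : Ku.map e ⊓ S.Ct = (Ku ⊓ S.C).map e := by
      ext x
      constructor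
      · rintro ⟨hx, hxt⟩
        refine ⟨g⁻¹ * x * g, ⟨(hmem x).1 hx, S.mem_C.2 ?_⟩, by simp [e, mul_assoc]⟩
        have hxt' : Commute x S.t := mem_centralizer_singleton_iff.1 hxt
        rw [← hg.1] at hxt'
        simpa [Commute, SemiconjBy, mul_assoc] using congrArg (fun a => g⁻¹ * a * g) hxt'.eq
      · rintro ⟨y, ⟨hy, hyC⟩, rfl⟩
        refine ⟨⟨y, hy, rfl⟩, mem_centralizer_singleton_iff.2 ?_⟩
        rw [← hg.1]
        simpa [e, mul_assoc] using congrArg (fun a => g * a * g⁻¹) (S.mem_C.1 hyC).eq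
    rwa [he, pv_map] at hd
  obtain ⟨g, hg, hgt⟩ := S.swap
  have hsd : S.Side g := ⟨hg, Or.inl hgt⟩
  have h1 := side S.t g hsd hgt S.tz (Commute.refl _)
  obtain ⟨s, -, hsC, hs⟩ := S.exists_conj_t F S.cover_top (mem_top _) (v := S.t * S.z) (mem_top _)
    (by rw [← pow_two, S.tz.mul_pow, pow_two, pow_two, S.tt, S.zz, one_mul])
    (fun e => F.tb_ne_zc (by
      have := congrArg S.im (mul_eq_one_iff_eq_inv.1 e)
      rwa [S.z_inv, S.im_t, S.im_z] at this))
    (fun e => by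
      have h2 := S.ht
      rw [mul_eq_right.1 e, orderOf_one] at h2; omega)
    (S.tz.mul_left (Commute.refl _))
  have hsd' : S.Side (g * s⁻¹) := by
    have hsz : s⁻¹ * S.z * s = S.z := by
      rw [mul_assoc, ← (S.mem_C.1 hsC).eq, inv_mul_cancel_left]
    refine ⟨?_, Or.inr ?_⟩
    · calc g * s⁻¹ * S.z * (g * s⁻¹)⁻¹ = g * (s⁻¹ * S.z * s) * g⁻¹ := by group
        _ = S.t := by rw [hsz, hg]
    · rw [← hs]
      calc g * s⁻¹ * (s * S.t * s⁻¹) * (g * s⁻¹)⁻¹ = g * S.t * g⁻¹ := by group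
        _ = S.z := hgt
  have h2 := side (S.t * S.z) (g * s⁻¹) hsd' (by
    rw [← hs]
    calc g * s⁻¹ * (s * S.t * s⁻¹) * (g * s⁻¹)⁻¹ = g * S.t * g⁻¹ := by group
      _ = S.z := hgt) (S.tz.mul_left (Commute.refl _)) ((Commute.refl _).mul_left S.tz.symm)
  -- Brauer - Wielandt
  have eU1 : K ⊓ S.Ct ⊓ S.C = KU := inf_right_comm _ _ _
  have eU2 : K ⊓ centralizer ({S.t * S.z} : Set G) ⊓ S.C = KU := by
    ext x
    simp only [KU, mem_inf, mem_centralizer_singleton_iff]
    constructor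
    · rintro ⟨⟨hx, h1⟩, h2⟩
      refine ⟨⟨hx, h2⟩, ?_⟩
      have := Commute.mul_right (show Commute x (S.t * S.z) from h1) (show Commute x S.z from h2)
      rw [mul_assoc, S.zz, mul_one] at this
      exact this.eq
    · rintro ⟨⟨hx, h2⟩, h1⟩
      exact ⟨⟨hx, (Commute.mul_right (show Commute x S.t from h1) (show Commute x S.z from h2)).eq⟩, h2⟩
  change pv r (K ⊓ S.Ct) + pv r S.D ≤ pv r (K ⊓ S.Ct ⊓ S.C) + pv r S.O at h1
  rw [eU1] at h1
  rw [eU2] at h2
  have hbw := congrArg (fun n => n.factorization r) (bw S.zz S.tt S.tz.symm hK hzK htK)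
  simp only [Nat.factorization_mul, Nat.factorization_pow, Nat.card_pos.ne', pow_ne_zero, mul_ne_zero_iff,
    ne_eq, not_false_eq_true, and_self, Finsupp.add_apply, Finsupp.smul_apply, smul_eq_mul] at hbw
  rw [show S.z * S.t = S.t * S.z from S.tz.eq.symm] at hbw
  change pv r K + 2 * pv r KU = pv r (K ⊓ S.C) + pv r (K ⊓ S.Ct) + pv r (K ⊓ centralizer ({S.t * S.z} : Set G)) at hbw
  omega

/-- The count, given the count of `H / O(H)` in the fused case. -/
theorem Good.count [Fact r.Prime] (F : QType L T zc tb r) {R0 H : Subgroup G} (h : S.Good R0 H)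
    (hR : R0 ≤ S.O) (hR0 : Nat.card R0 = r ^ pv r S.O) (ht0 : S.t ∈ normalizer (R0 : Set G))
    (hquot : S.Fused H → pv r H + pv r S.O ≤ pv r (Torus.core H) + pv r S.C) :
    pv r H + 2 * pv r S.D ≤ pv r S.C + 2 * pv r S.O := by
  have h1 := S.core_bound F h hR hR0 ht0
  by_cases hF : S.Fused H
  · have := hquot hF; omega
  · obtain ⟨hC, hO⟩ := S.pv_C_eq h.cover hR h.R_le (isPGroup_of_pv hR0)
    have := S.pv_unfused F h.z_mem h.cover hF
    omega

end Setting

end Cfsg.Agent.SDKeystone.Torus
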