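import Cfsg.Agent.Lib.SDKeystone.Torus.Count
import Mathlib.RepresentationTheory.Basic

/-!
# The torus theorem: its three inputs (helper91)

* `NoTorus` : no non-trivial torus element fixes `C_W(Z)` on a module that `L` moves (helper90's lemma);
* `NoQuad` : no `r`-element outside the core acts quadratically on such a module;
* `CentralSylow` : if `L` centralises the Sylow `r`-subgroup of the core, `C(z)` contains a Sylow `r`-subgroup
  (helper26's budget and the base).
-/

set_option autoImplicit false

namespace Cfsg.Agent.SDKeystone.Torus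

open Subgroup

universe u v w

variable {Q : Type v} [Group Q]

/-- No non-trivial element of `T` fixes the fixed vectors of a lift of `tb`, unless `L` acts trivially. -/
def NoTorus (L T : Subgroup Q) (tb : Q) (r : ℕ) : Prop :=
  ∀ (Γ : Type u) [Group Γ] [Finite Γ] (π : Γ →* Q), L ≤ π.range → Odd (Nat.card π.ker) →
    ∀ (W : Type u) [AddCommGroup W] [Finite W] [Module (ZMod r) W] (ρ : Γ →* Module.End (ZMod r) W) (Z E : Γ),
      π Z = tb → Z * Z = 1 → Commute Z E → π E ∈ T → π E ≠ 1 → (∀ x, ρ Z x = x → ρ E x = x) →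
      L ≤ ρ.ker.map π

/-- No `r`-element with a non-trivial image acts quadratically, unless `L` acts trivially. -/
def NoQuad (L : Subgroup Q) (r : ℕ) : Prop :=
  ∀ (Γ : Type u) [Group Γ] [Finite Γ] (π : Γ →* Q), Function.Surjective π → Odd (Nat.card π.ker) →
    ∀ (W : Type u) [AddCommGroup W] [Finite W] [Module (ZMod r) W] (ρ : Γ →* Module.End (ZMod r) W) (a : Γ),
      (∃ k, a ^ r ^ k = 1) → π a ≠ 1 → (ρ a - 1) * (ρ a - 1) = 0 → L ≤ ρ.ker.map π

namespace Setting

variable {L T : Subgroup Q} {zc tb : Q} {r : ℕ} {G : Type u} [Group G] (S : Setting L T zc tb r G)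

/-- A perfect subgroup of `C(z)` covering `L` centralises `R`. -/
def LCent (R : Subgroup G) : Prop :=
  ∃ P : Subgroup G, P ≤ S.C ∧ ⁅P, P⁆ = P ∧ P ≤ centralizer (R : Set G) ∧ L ≤ S.img P

end Setting

/-- The case in which `L` centralises the Sylow `r`-subgroup of the core. -/
def CentralSylow (L T : Subgroup Q) (zc tb : Q) (r : ℕ) : Prop :=
  ∀ (G : Type u) [Group G] [Finite G] (S : Setting L T zc tb r G), Cfsg.oddCore G = ⊥ →
    ∀ R0 : Subgroup G, R0 ≤ S.O → Nat.card R0 = r ^ pv r S.O → S.t ∈ normalizer (R0 : Set G) → S.LCent R0 →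
      pv r S.C = (Nat.card G).factorization r

end Cfsg.Agent.SDKeystone.Torus
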