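import Cfsg.Agent.Lib.SDKeystone.Torus.Setting
import Cfsg.Agent.Lib.Coprime.Factorization
import Cfsg.Agent.Lib.ZStar.Glauberman
import Cfsg.Agent.Lib.ZStarPrimePower.Proved

/-!
# The torus theorem: subgroups covering `C(z) / O(C(z))` (helper91)

* `core_inf_C_le`, `O_inf_le_core` : the core of a covering subgroup against `O`;
* `exists_mul_C` : `H = O(H) C_H(z)` if `z` is isolated in `H`;
* `exists_conj_t`, `exists_swap` : the involutions of `C_H(z)`, the swap inside a fused `H`;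
* `Side` facts.
-/

set_option autoImplicit false
set_option linter.unusedSectionVars false

namespace Cfsg.Agent.SDKeystone.Torus

open Subgroup

universe u v

variable {Q : Type v} [Group Q] {L T : Subgroup Q} {zc tb : Q} {r : ℕ} {G : Type u} [Group G]

/-- Two involutions with product of odd order are conjugate by a power of the product. -/
theorem exists_conj_of_odd {v v' : G} (hv : v * v = 1) (hv' : v' * v' = 1) (h : Odd (orderOf (v' * v))) :
    ∃ y ∈ zpowers (v' * v), y * v * y⁻¹ = v' := by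
  obtain ⟨k, hk⟩ := h
  set w := v' * v with hw
  have hinv : v * w * v⁻¹ = w⁻¹ := by
    rw [hw, mul_inv_rev, inv_eq_of_mul_eq_one_right hv, inv_eq_of_mul_eq_one_right hv']
    simp [mul_assoc, hv]
  have hconj : ∀ m : ℕ, v * (w ^ m)⁻¹ * v⁻¹ = w ^ m := fun m => by
    rw [← inv_pow, ← conj_pow, show v * w⁻¹ * v⁻¹ = (v * w * v⁻¹)⁻¹ by group, hinv, inv_inv]
  refine ⟨w ^ (k + 1), pow_mem (mem_zpowers w) _, ?_⟩
  calc w ^ (k + 1) * v * (w ^ (k + 1))⁻¹ = w ^ (k + 1) * (v * (w ^ (k + 1))⁻¹ * v⁻¹) * v := by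
        simp [mul_assoc]
    _ = w ^ (k + 1) * w ^ (k + 1) * v := by rw [hconj]
    _ = w * v := by
        rw [← pow_add, show k + 1 + (k + 1) = orderOf w + 1 by omega, pow_add, pow_orderOf_eq_one, one_mul, pow_one]
    _ = v' := by rw [hw, mul_assoc, hv, mul_one]

/-- The odd core of a subgroup. -/
def core (H : Subgroup G) : Subgroup G := (Cfsg.oddCore H).map H.subtype

theorem core_le (H : Subgroup G) : core H ≤ H := map_subtype_le _

theorem core_norm (H : Subgroup G) : H ≤ normalizer (core H : Set G) := by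
  intro h hh
  rw [mem_normalizer_iff]
  intro x
  constructor
  · rintro ⟨y, hy, rfl⟩
    exact ⟨⟨h, hh⟩ * y * ⟨h, hh⟩⁻¹, (inferInstance : (Cfsg.oddCore H).Normal).conj_mem y hy ⟨h, hh⟩, rfl⟩
  · rintro ⟨y, hy, hyx⟩
    refine ⟨⟨h, hh⟩⁻¹ * y * ⟨h, hh⟩, ?_, ?_⟩
    · have := (inferInstance : (Cfsg.oddCore H).Normal).conj_mem y hy ⟨h, hh⟩⁻¹
      rwa [inv_inv] at this
    · simp only [Subgroup.coe_subtype, coe_mul, coe_inv] at hyx ⊢
      rw [hyx]; group

variable [Finite G]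

theorem core_odd (H : Subgroup G) : Odd (Nat.card (core H)) := by
  rw [core, card_map_of_injective H.subtype_injective]
  exact Nat.coprime_two_right.1 (Cores.coprime_card_pPrimeCore 2)

theorem le_core {H X : Subgroup G} (hXH : X ≤ H) (hn : H ≤ normalizer (X : Set G)) (hodd : Odd (Nat.card X)) :
    X ≤ core H := by
  have hN : (X.subgroupOf H).Normal := normal_subgroupOf_of_le_normalizer hn
  have hc : X.subgroupOf H ≤ Cfsg.oddCore H :=
    Cores.le_pPrimeCore hN (Nat.coprime_two_right.2 (by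
      rwa [Nat.card_congr (subgroupOfEquivOfLe hXH).toEquiv]))
  intro x hx
  exact ⟨⟨x, hXH hx⟩, hc hx, rfl⟩

theorem solvable_of_odd {X : Subgroup G} (h : Odd (Nat.card X)) : Group.IsSolvable X :=
  OddOrderTheorem.oddSolvable X h

theorem odd_orderOf_mem {X : Subgroup G} (h : Odd (Nat.card X)) {x : G} (hx : x ∈ X) : Odd (orderOf x) :=
  Odd.of_dvd_nat h (X.orderOf_dvd_natCard hx)

theorem eq_one_of_sq {X : Subgroup G} (h : Odd (Nat.card X)) {x : G} (hx : x ∈ X) (h2 : x * x = 1) : x = 1 := by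
  have h1 : orderOf x ∣ 2 := orderOf_dvd_of_pow_eq_one (by rw [pow_two, h2])
  rcases (Nat.dvd_prime Nat.prime_two).1 h1 with e | e
  · exact orderOf_eq_one_iff.1 e
  · have := odd_orderOf_mem h hx; rw [e] at this; exact absurd this (by decide)

namespace QType

theorem L_not_odd [Finite Q] (F : QType L T zc tb r) : ¬ Odd (Nat.card L) := fun h =>
  F.zc_ne (eq_one_of_sq h F.zc_mem F.zc_sq)

theorem eq_bot_of_odd [Finite Q] (F : QType L T zc tb r) {K : Subgroup Q} (hK : Odd (Nat.card K))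
    (hn : L ≤ normalizer (K : Set Q)) : K = ⊥ := by
  rcases F.norm_cases K hn with h | h
  · exact absurd (Odd.of_dvd_nat hK (card_dvd_of_le h)) F.L_not_odd
  · refine (Subgroup.eq_bot_iff_forall K).2 fun x hx => eq_one_of_sq hK hx ?_
    obtain ⟨n, rfl⟩ := mem_zpowers_iff.1 (h hx)
    rw [← mul_zpow_self zc n |> (fun _ => (Commute.refl zc).mul_zpow n), F.zc_sq, one_zpow]

end QType

namespace Setting

variable (S : Setting L T zc tb r G)

/-- `C_H(z)` covers `Q`. -/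
def Cover (H : Subgroup G) : Prop := ∀ q : Q, ∃ h ∈ H, h ∈ S.C ∧ S.im h = q

theorem cover_top : S.Cover ⊤ := fun q => by
  obtain ⟨x, hx, e⟩ := S.exists_im q
  exact ⟨x, mem_top x, hx, e⟩

theorem zz : S.z * S.z = 1 := by rw [← pow_two, ← S.hz, pow_orderOf_eq_one]

theorem tt : S.t * S.t = 1 := by rw [← pow_two, ← S.ht, pow_orderOf_eq_one]

theorem z_inv : S.z⁻¹ = S.z := inv_eq_of_mul_eq_one_right S.zz

theorem t_inv : S.t⁻¹ = S.t := inv_eq_of_mul_eq_one_right S.tt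

theorem odd_card_img {K : Subgroup G} (hK : Odd (Nat.card K)) : Odd (Nat.card (S.img K)) := by
  refine Odd.of_dvd_nat ?_ (card_map_dvd _ S.φ)
  refine Odd.of_dvd_nat hK ?_
  rw [← card_map_of_injective (K := K.subgroupOf S.C) S.C.subtype_injective, subgroupOf_map_subtype]
  exact card_dvd_of_le inf_le_left

/-- An odd subgroup normalised by a covering `C_H(z)` meets `C(z)` inside `O`. -/
theorem inf_C_le (F : QType L T zc tb r) {H K : Subgroup G} (hcov : S.Cover H)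
    (hn : H ⊓ S.C ≤ normalizer (K : Set G)) (hK : Odd (Nat.card K)) : K ⊓ S.C ≤ S.O := by
  haveI := S.finite_Q
  have h1 : S.img K = ⊥ := F.eq_bot_of_odd (S.odd_card_img hK) fun l _ => by
    obtain ⟨h, hh, hC, rfl⟩ := hcov l
    exact S.img_le_normalizer hn (S.im_mem_img ⟨hh, hC⟩ hC)
  intro x hx
  refine S.mem_O_iff.2 ⟨hx.2, ?_⟩
  have := S.im_mem_img hx.1 hx.2
  rwa [h1, mem_bot] at this

theorem core_inf_C_le (F : QType L T zc tb r) {H : Subgroup G} (hcov : S.Cover H) : core H ⊓ S.C ≤ S.O :=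
  S.inf_C_le F hcov (inf_le_left.trans (core_norm H)) (core_odd H)

theorem isolated_central {H : Subgroup G} (hz : S.z ∈ H) (hH : ¬ S.Fused H) {h : G} (hh : h ∈ H) :
    S.z * h * S.z⁻¹ * h⁻¹ ∈ core H := by
  have hiso : Cfsg.IsIsolatedInvolution (⟨S.z, hz⟩ : H) := by
    refine ⟨by rw [Subgroup.orderOf_mk, S.hz], fun g hg => Subtype.ext ?_⟩
    by_contra hne
    exact hH ⟨g, g.2, (congrArg Subtype.val hg.eq.symm :), hne⟩
  exact ⟨_, ZStar.zStar_of_brauerSuzuki ZStarPrimePower.uniqueInvolutionZStar_proved hiso ⟨h, hh⟩, rfl⟩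

theorem not_fused_of_central {H : Subgroup G}
    (h : ∀ x ∈ H, S.z * x * S.z⁻¹ * x⁻¹ ∈ core H) : ¬ S.Fused H := by
  rintro ⟨g, hg, hc, hne⟩
  refine hne ?_
  set v := g * S.z * g⁻¹ with hv
  have h1 : S.z * v ∈ core H := by
    have := h g hg
    rwa [S.z_inv, show S.z * g * S.z * g⁻¹ = S.z * v by rw [hv]; group] at this
  have hvv : v * v = 1 := by
    rw [hv, show g * S.z * g⁻¹ * (g * S.z * g⁻¹) = g * (S.z * S.z) * g⁻¹ by group, S.zz, mul_one, mul_inv_cancel]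
  have h2 := eq_one_of_sq (core_odd H) h1 (by
    rw [show S.z * v * (S.z * v) = S.z * (v * S.z) * v by group, hc.eq,
      show S.z * (S.z * v) * v = (S.z * S.z) * (v * v) by group, S.zz, hvv, one_mul])
  exact (mul_eq_one_iff_inv_eq.1 h2).symm.trans S.z_inv

/-- `H = O(H) C_H(z)` for isolated `z`. -/
theorem exists_mul_C {H : Subgroup G} (hz : S.z ∈ H) (hH : ¬ S.Fused H) {h : G} (hh : h ∈ H) :
    ∃ n ∈ core H, ∃ c ∈ H, c ∈ S.C ∧ h = n * c := by
  have hA : zpowers S.z ≤ normalizer (H : Set G) := (zpowers_le.2 hz).trans le_normalizer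
  have hN : zpowers S.z ≤ normalizer (core H : Set G) := (zpowers_le.2 hz).trans (core_norm H)
  -- apply the coprime lifting inside `N⟨h⟩`
  have h1 := S.isolated_central hz hH hh
  obtain ⟨k, hk⟩ := odd_orderOf_mem (core_odd H) h1
  set w := S.z * h * S.z⁻¹ * h⁻¹ with hw
  have hzw : S.z * w * S.z⁻¹ = w⁻¹ := by
    rw [hw, S.z_inv]
    simp only [mul_inv_rev, inv_inv, S.z_inv, mul_assoc]
    rw [← mul_assoc S.z S.z, S.zz, one_mul]
  have hy : S.z * (w ^ (k + 1)) * S.z⁻¹ = (w ^ (k + 1))⁻¹ := by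
    rw [← conj_pow, hzw, inv_pow]
  refine ⟨(w ^ (k + 1))⁻¹, inv_mem (pow_mem h1 _), w ^ (k + 1) * h,
    mul_mem (core_le H (pow_mem h1 _)) hh, S.mem_C.2 ?_, by group⟩
  have e : S.z * (w ^ (k + 1) * h) * S.z⁻¹ = w ^ (k + 1) * h := by
    calc S.z * (w ^ (k + 1) * h) * S.z⁻¹ = (S.z * w ^ (k + 1) * S.z⁻¹) * (S.z * h * S.z⁻¹ * h⁻¹) * h := by
          simp [mul_assoc]
      _ = (w ^ (k + 1))⁻¹ * w * h := by rw [hy]
      _ = w ^ (k + 1) * h := by
          congr 1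
          rw [inv_mul_eq_iff_eq_mul, ← pow_add, show k + 1 + (k + 1) = orderOf w + 1 by omega, pow_add,
            pow_orderOf_eq_one, one_mul, pow_one]
  exact (mul_inv_eq_iff_eq_mul.1 e).symm

/-- `O ∩ H` is in the core of an unfused covering `H`. -/
theorem O_inf_le_core {H : Subgroup G} (hz : S.z ∈ H) (hH : ¬ S.Fused H) : S.O ⊓ H ≤ core H := by
  have hnC : H ⊓ S.C ≤ normalizer ((S.O ⊓ H : Subgroup G) : Set G) := fun x hx =>
    Coprime.mem_normalizer_of_forall fun y hy =>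
      ⟨(mem_normalizer_iff.1 (S.O_norm hx.2) y).1 hy.1, H.mul_mem (H.mul_mem hx.1 hy.2) (H.inv_mem hx.1)⟩
  have hle : (S.O ⊓ H) ⊔ core H ≤ H := sup_le inf_le_right (core_le H)
  have e : ((S.O ⊓ H).subgroupOf H ⊔ Cfsg.oddCore H).map H.subtype = (S.O ⊓ H) ⊔ core H := by
    rw [Subgroup.map_sup, subgroupOf_map_subtype, inf_eq_left.2 inf_le_right, core]
  refine le_sup_left.trans (le_core hle ?_ ?_)
  · intro h hh
    obtain ⟨n, hn, c, hc, hcC, rfl⟩ := S.exists_mul_C hz hH hh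
    refine mul_mem (le_normalizer (mem_sup_right hn)) ?_
    exact normalizer_inf_normalizer_le_normalizer_sup _ _ ⟨hnC ⟨hc, hcC⟩, core_norm H hc⟩
  · rw [← e, card_map_of_injective H.subtype_injective]
    refine Odd.of_dvd_nat ?_ (Cores.card_sup_dvd _ _)
    refine Odd.mul ?_ (Nat.coprime_two_right.1 (Cores.coprime_card_pPrimeCore 2))
    rw [Nat.card_congr (subgroupOfEquivOfLe inf_le_right).toEquiv]
    exact Odd.of_dvd_nat S.O_odd (card_dvd_of_le inf_le_left)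

theorem exists_conj_t (F : QType L T zc tb r) {H : Subgroup G} (hcov : S.Cover H) (ht : S.t ∈ H) {v : G}
    (hvH : v ∈ H) (hv : v * v = 1) (hv1 : v ≠ 1) (hvz : v ≠ S.z) (hc : Commute v S.z) :
    ∃ c ∈ H, c ∈ S.C ∧ c * S.t * c⁻¹ = v := by
  have hvC : v ∈ S.C := S.mem_C.2 hc
  have h1 : S.im v * S.im v = 1 := by rw [← S.im_mul hvC hvC, hv, S.im_one]
  have h2 : S.im v ≠ 1 := fun e => hv1 (eq_one_of_sq S.O_odd (S.mem_O_iff.2 ⟨hvC, e⟩) hv)
  have h3 : S.im v ≠ zc := fun e => hvz (by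
    have h4 : v * S.z ∈ S.O := S.mem_O_iff.2 ⟨mul_mem hvC S.z_mem, by
      rw [S.im_mul hvC S.z_mem, e, S.im_z, F.zc_sq]⟩
    have := eq_one_of_sq S.O_odd h4 (by rw [← pow_two, hc.mul_pow, pow_two, pow_two, hv, S.zz, one_mul])
    exact (mul_eq_one_iff_eq_inv.1 this).trans S.z_inv)
  obtain ⟨l, -, hl⟩ := F.invol_conj _ h1 h2 h3
  obtain ⟨c, hcH, hcC, rfl⟩ := hcov l
  set v' := c * S.t * c⁻¹ with hv'
  have hv'C : v' ∈ S.C := mul_mem (mul_mem hcC S.t_mem) (inv_mem hcC)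
  have e : S.im v' = S.im v := by
    rw [← hl, S.im_mul (mul_mem hcC S.t_mem) (inv_mem hcC), S.im_mul hcC S.t_mem, S.im_t, S.im_inv hcC]
  have hO : v * v' ∈ S.O := S.mem_O_iff.2 ⟨mul_mem hvC hv'C, by rw [S.im_mul hvC hv'C, e, h1]⟩
  have hv'2 : v' * v' = 1 := by
    rw [hv', show c * S.t * c⁻¹ * (c * S.t * c⁻¹) = c * (S.t * S.t) * c⁻¹ by group, S.tt, mul_one, mul_inv_cancel]
  obtain ⟨y, hy, hyv⟩ := exists_conj_of_odd hv'2 hv (odd_orderOf_mem S.O_odd hO)
  have hyH : y ∈ H := zpowers_le.2 (mul_mem hvH (mul_mem (mul_mem hcH ht) (inv_mem hcH))) hy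
  have hyC : y ∈ S.C := zpowers_le.2 (mul_mem hvC hv'C) hy
  exact ⟨y * c, mul_mem hyH hcH, mul_mem hyC hcC, by rw [← hyv, hv']; group⟩

theorem exists_swap (F : QType L T zc tb r) {H : Subgroup G} (hz : S.z ∈ H) (ht : S.t ∈ H) (hcov : S.Cover H)
    (hH : S.Fused H) : ∃ g ∈ H, g * S.z * g⁻¹ = S.t ∧ g * S.t * g⁻¹ = S.z := by
  obtain ⟨h, hh, hc, hne⟩ := hH
  have sq : ∀ a x : G, x * x = 1 → a * x * a⁻¹ * (a * x * a⁻¹) = 1 := fun a x hx => by
    rw [show a * x * a⁻¹ * (a * x * a⁻¹) = a * (x * x) * a⁻¹ by group, hx, mul_one, mul_inv_cancel]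
  have ne1 : ∀ a : G, a * S.z * a⁻¹ ≠ 1 := fun a e => by
    rw [mul_inv_eq_one, mul_eq_left] at e
    have h2 := S.hz; rw [e, orderOf_one] at h2; omega
  obtain ⟨c, hcH, hcC, hcv⟩ := S.exists_conj_t F hcov ht (mul_mem (mul_mem hh hz) (inv_mem hh))
    (sq h _ S.zz) (ne1 h) hne hc
  set h' := c⁻¹ * h with hh'
  have hh'H : h' ∈ H := mul_mem (inv_mem hcH) hh
  have e1 : h' * S.z * h'⁻¹ = S.t := by
    rw [hh', show c⁻¹ * h * S.z * (c⁻¹ * h)⁻¹ = c⁻¹ * (h * S.z * h⁻¹) * c by group, ← hcv]; group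
  set v := h'⁻¹ * S.z * h'⁻¹⁻¹ with hv
  have hvz : Commute v S.z := by
    have := congrArg (fun x => h'⁻¹ * x * h'⁻¹⁻¹) S.tz.eq
    rw [← e1] at this
    simpa [hv, mul_assoc, Commute, SemiconjBy] using this.symm
  have hvne : v ≠ S.z := fun e => by
    have h2 : S.z = S.t := by
      have := congrArg (fun x => h' * x * h'⁻¹) e
      rw [hv] at this
      simpa [mul_assoc, e1] using this.trans e1
    have := F.tb_ne_zc
    rw [← S.im_t, ← h2, S.im_z] at this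
    exact this rfl
  obtain ⟨c', hc'H, hc'C, hc'v⟩ := S.exists_conj_t F hcov ht
    (mul_mem (mul_mem (inv_mem hh'H) hz) (inv_mem (inv_mem hh'H))) (sq _ _ S.zz) (ne1 _) hvne hvz
  refine ⟨h' * c', mul_mem hh'H hc'H, ?_, ?_⟩
  · rw [show h' * c' * S.z * (h' * c')⁻¹ = h' * (c' * S.z * c'⁻¹) * h'⁻¹ by group,
      (S.mem_C.1 hc'C).eq, mul_inv_cancel_right, e1]
  · rw [show h' * c' * S.t * (h' * c')⁻¹ = h' * (c' * S.t * c'⁻¹) * h'⁻¹ by group, hc'v]
    group

end Setting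

end Cfsg.Agent.SDKeystone.Torus
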