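import Cfsg.Agent.Lib.Cores.Basic
import Cfsg.Agent.Lib.Coprime.Invariant
import Cfsg.Agent.Lib.OddOrderTheorem.FTUse

/-!
# The torus theorem of the semidihedral keystone: the setting (helper91)

`notes/sd_regularity_torus_helper91.md`, sections 1 - 4.  `Q` stands for `C(z) / O(C(z))`, `L` for its `SL₂(q)`,
`T` for the odd part of the torus of the non-central involution `tb`, `r` for a prime of the other torus.

* `QType` : the facts used about `Q`;
* `Setting` : `φ : C(z) → Q` with kernel the odd core, and a swap of `z` and `t`;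
* `Setting.Side` : `g` moves `z` to `t` and one of `t`, `t z` to `z`;
* `Setting.Good` : the subgroups the ascent runs through.
-/

set_option autoImplicit false

namespace Cfsg.Agent.SDKeystone.Torus

open Subgroup

universe u v

/-- The facts used about `C(z) / O(C(z))`. -/
structure QType {Q : Type v} [Group Q] (L T : Subgroup Q) (zc tb : Q) (r : ℕ) : Prop where
  normal : L.Normal
  perfect : ⁅L, L⁆ = L
  zc_central : ∀ q, Commute q zc
  zc_mem : zc ∈ L
  zc_ne : zc ≠ 1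
  zc_sq : zc * zc = 1
  tb_ne : tb ≠ 1
  tb_ne_zc : tb ≠ zc
  tb_sq : tb * tb = 1
  perfect_le : ∀ P : Subgroup Q, ⁅P, P⁆ = P → P ≤ L
  norm_cases : ∀ K : Subgroup Q, L ≤ normalizer (K : Set Q) → L ≤ K ∨ K ≤ zpowers zc
  invol_conj : ∀ v : Q, v * v = 1 → v ≠ 1 → v ≠ zc → ∃ l ∈ L, l * tb * l⁻¹ = v
  abelian_two : ∀ (_ : L.Normal) (P : Sylow 2 (Q ⧸ L)), IsMulCommutative P
  T_le : T ≤ L
  T_cent : ∀ x ∈ T, Commute x tb
  T_odd : Odd (Nat.card T)
  T_ne : T ≠ ⊥
  T_norm : ∀ q, Commute q tb → q ∈ normalizer (T : Set Q)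
  /-- An odd subgroup at `tb` normalised by the torus meets it, unless trivial. -/
  fix_free : ∀ K : Subgroup Q, Odd (Nat.card K) → (∀ k ∈ K, Commute k tb) → T ≤ normalizer (K : Set Q) →
    K ⊓ T = ⊥ → K = ⊥
  /-- An odd subgroup normalised by `tb` and the torus has no `r`-element inverted by `tb`. -/
  no_inv : ∀ K : Subgroup Q, Odd (Nat.card K) → tb ∈ normalizer (K : Set Q) → T ≤ normalizer (K : Set Q) →
    ∀ y ∈ K, (∃ k, y ^ r ^ k = 1) → tb * y * tb = y⁻¹ → y = 1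
  sylow : ∃ A : Sylow r Q, tb ∈ normalizer ((A : Subgroup Q) : Set Q)

/-- `φ : C(z) → Q` with kernel the odd core, and a swap of `z` and `t`. -/
structure Setting {Q : Type v} [Group Q] (L T : Subgroup Q) (zc tb : Q) (r : ℕ) (G : Type u) [Group G] where
  z : G
  t : G
  hz : orderOf z = 2
  ht : orderOf t = 2
  tz : Commute t z
  φ : centralizer ({z} : Set G) →* Q
  surj : Function.Surjective φ
  ker : φ.ker = Cfsg.oddCore (centralizer ({z} : Set G))
  φ_z : φ ⟨z, mem_centralizer_singleton_iff.2 rfl⟩ = zc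
  φ_t : φ ⟨t, mem_centralizer_singleton_iff.2 tz.eq⟩ = tb
  swap : ∃ g : G, g * z * g⁻¹ = t ∧ g * t * g⁻¹ = z

variable {Q : Type v} [Group Q] {L T : Subgroup Q} {zc tb : Q} {r : ℕ} {G : Type u} [Group G]

namespace Setting

variable (S : Setting L T zc tb r G)

/-- `C(z)`. -/
abbrev C : Subgroup G := centralizer ({S.z} : Set G)

theorem mem_C {x : G} : x ∈ S.C ↔ Commute x S.z := mem_centralizer_singleton_iff

theorem z_mem : S.z ∈ S.C := S.mem_C.2 (Commute.refl _)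

theorem t_mem : S.t ∈ S.C := S.mem_C.2 S.tz

/-- `O(C(z))` as a subgroup of `G`. -/
def O : Subgroup G := S.φ.ker.map S.C.subtype

theorem mem_O {x : G} : x ∈ S.O ↔ ∃ h : x ∈ S.C, S.φ ⟨x, h⟩ = 1 := by
  constructor
  · rintro ⟨y, hy, rfl⟩; exact ⟨y.2, hy⟩
  · rintro ⟨h, h1⟩; exact ⟨⟨x, h⟩, h1, rfl⟩

theorem O_le : S.O ≤ S.C := map_subtype_le _

open Classical in
/-- The image in `Q`, extended by `1`. -/
noncomputable def im (x : G) : Q := if h : x ∈ S.C then S.φ ⟨x, h⟩ else 1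

theorem im_eq {x : G} (h : x ∈ S.C) : S.im x = S.φ ⟨x, h⟩ := dif_pos h

theorem im_mul {x y : G} (hx : x ∈ S.C) (hy : y ∈ S.C) : S.im (x * y) = S.im x * S.im y := by
  rw [S.im_eq hx, S.im_eq hy, S.im_eq (mul_mem hx hy), ← map_mul]; rfl

theorem im_inv {x : G} (hx : x ∈ S.C) : S.im x⁻¹ = (S.im x)⁻¹ := by
  rw [S.im_eq hx, S.im_eq (inv_mem hx), ← map_inv]; rfl

theorem im_one : S.im 1 = 1 := by rw [S.im_eq (one_mem _)]; exact map_one S.φ

theorem im_z : S.im S.z = zc := (S.im_eq S.z_mem).trans S.φ_z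

theorem im_t : S.im S.t = tb := (S.im_eq S.t_mem).trans S.φ_t

theorem mem_O_iff {x : G} : x ∈ S.O ↔ x ∈ S.C ∧ S.im x = 1 := by
  rw [S.mem_O]
  exact ⟨fun ⟨h, e⟩ => ⟨h, (S.im_eq h).trans e⟩, fun ⟨h, e⟩ => ⟨h, (S.im_eq h).symm.trans e⟩⟩

theorem exists_im (q : Q) : ∃ x ∈ S.C, S.im x = q := by
  obtain ⟨x, rfl⟩ := S.surj q
  exact ⟨x, x.2, S.im_eq x.2⟩

/-- The image of the part of a subgroup inside `C(z)`. -/
def img (K : Subgroup G) : Subgroup Q := (K.subgroupOf S.C).map S.φ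

theorem mem_img {K : Subgroup G} {q : Q} : q ∈ S.img K ↔ ∃ x ∈ K, x ∈ S.C ∧ S.im x = q := by
  constructor
  · rintro ⟨y, hy, rfl⟩; exact ⟨y, hy, y.2, S.im_eq y.2⟩
  · rintro ⟨x, hx, hC, rfl⟩; exact ⟨⟨x, hC⟩, hx, (S.im_eq hC).symm⟩

theorem im_mem_img {K : Subgroup G} {x : G} (hx : x ∈ K) (hC : x ∈ S.C) : S.im x ∈ S.img K :=
  S.mem_img.2 ⟨x, hx, hC, rfl⟩

/-- `g` moves `z` to `t` and one of `t`, `t z` to `z`. -/
def Side (g : G) : Prop := g * S.z * g⁻¹ = S.t ∧ (g * S.t * g⁻¹ = S.z ∨ g * (S.t * S.z) * g⁻¹ = S.z)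

theorem exists_side : ∃ g, S.Side g := by
  obtain ⟨g, h1, h2⟩ := S.swap
  exact ⟨g, h1, Or.inl h2⟩

/-- The torus at every side is covered by `C_H(U)`. -/
def Tau (H : Subgroup G) : Prop :=
  ∀ g, S.Side g → ∀ τ ∈ T, ∃ c ∈ H, Commute c S.z ∧ Commute c S.t ∧ S.im (g * c * g⁻¹) = τ

/-- `z` is not isolated in `H`. -/
def Fused (H : Subgroup G) : Prop :=
  ∃ h ∈ H, Commute (h * S.z * h⁻¹) S.z ∧ h * S.z * h⁻¹ ≠ S.z

/-- The subgroups of the ascent. -/
structure Good (R0 H : Subgroup G) : Prop where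
  z_mem : S.z ∈ H
  t_mem : S.t ∈ H
  R_le : R0 ≤ H
  ne_top : H ≠ ⊤
  cover : ∀ q : Q, ∃ h ∈ H, h ∈ S.C ∧ S.im h = q
  core : R0 ≤ (Cfsg.oddCore H).map H.subtype
  tau : S.Fused H ∨ S.Tau H

section Finite

variable [Finite G]

theorem O_odd : Odd (Nat.card S.O) := by
  rw [O, card_map_of_injective S.C.subtype_injective, S.ker]
  exact Nat.coprime_two_right.1 (Cores.coprime_card_pPrimeCore 2)

include S in
theorem finite_Q : Finite Q := Finite.of_surjective S.φ S.surj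

omit [Finite G] in
theorem O_norm : S.C ≤ normalizer (S.O : Set G) := fun c hc => by
  rw [mem_normalizer_iff]
  intro x
  have hn : S.φ.ker.Normal := MonoidHom.normal_ker _
  simp only [S.mem_O_iff]
  constructor
  · rintro ⟨hx, h1⟩
    refine ⟨mul_mem (mul_mem hc hx) (inv_mem hc), ?_⟩
    rw [S.im_mul (mul_mem hc hx) (inv_mem hc), S.im_mul hc hx, h1, mul_one, ← S.im_mul hc (inv_mem hc),
      mul_inv_cancel, S.im_one]
  · rintro ⟨hx, h1⟩
    have hx' : x ∈ S.C := by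
      have := mul_mem (mul_mem (inv_mem hc) hx) hc
      simpa [mul_assoc] using this
    refine ⟨hx', ?_⟩
    rw [S.im_mul (mul_mem hc hx') (inv_mem hc), S.im_mul hc hx', S.im_inv hc, mul_inv_eq_one] at h1
    simpa using h1

theorem img_le_normalizer {K M : Subgroup G} (h : M ≤ normalizer (K : Set G)) :
    S.img M ≤ normalizer (S.img K : Set Q) := by
  haveI := S.finite_Q
  intro q hq
  obtain ⟨m, hm, hmC, rfl⟩ := S.mem_img.1 hq
  refine Coprime.mem_normalizer_of_forall fun y hy => ?_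
  obtain ⟨x, hx, hxC, rfl⟩ := S.mem_img.1 hy
  refine S.mem_img.2 ⟨m * x * m⁻¹, (mem_normalizer_iff.1 (h hm) x).1 hx, mul_mem (mul_mem hmC hxC) (inv_mem hmC), ?_⟩
  rw [S.im_mul (mul_mem hmC hxC) (inv_mem hmC), S.im_mul hmC hxC, S.im_inv hmC]

end Finite

end Setting

end Cfsg.Agent.SDKeystone.Torus
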